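import Groth.Agent.CechSSLib.Tools
import Groth.Agent.S8566
import Groth.Agent.CohBase.Injective
import Groth.Agent.CohBase.Cartan
import Groth.Agent.HdRLib.Sections
import Groth.Prelude.Def_CechTot
import Mathlib.Algebra.Homology.TotalComplexSymmetry

/-!
# Čech hypercohomology of an acyclic covering computes hypercohomology
-/

set_option autoImplicit false
set_option backward.isDefEq.respectTransparency false
set_option backward.isDefEq.respectTransparency.types false
set_option linter.style.haveILetI false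

universe u

open CategoryTheory CategoryTheory.Limits Opposite TopologicalSpace DerivedCategory

noncomputable section

namespace Groth.Agent.CechSSLib

open CohBase

attribute [local instance] SpSeqLib.additive_secAt

variable {X : TopCat.{u}} {ι : Type u} (U : ι → Opens X)

/-- The Čech cochains in degree `p` as a functor. -/
def ccFun (p : ℕ) : ((Opens X)ᵒᵖ ⥤ AddCommGrpCat.{u}) ⥤ AddCommGrpCat.{u} where
  obj P := AddCommGrpCat.of (CC U P p)
  map f := AddCommGrpCat.ofHom (ccMap U f p)

instance (p : ℕ) : (ccFun U p).PreservesZeroMorphisms where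
  map_zero P Q := AddCommGrpCat.hom_ext (AddMonoidHom.ext fun c => rfl)

/-- Mathlib's extended Čech complex as a functor. -/
abbrev cechZ : ((Opens X)ᵒᵖ ⥤ AddCommGrpCat.{u}) ⥤ CochainComplex AddCommGrpCat.{u} ℤ :=
  cechComplexFunctor (A := AddCommGrpCat.{u}) U ⋙
    ComplexShape.embeddingUpNat.extendFunctor AddCommGrpCat.{u}

/-- The terms of the extended Čech complex. -/
def zIso (P : (Opens X)ᵒᵖ ⥤ AddCommGrpCat.{u}) (p : ℕ) :
    ((cechZ U).obj P).X (p : ℤ) ≅ AddCommGrpCat.of (CC U P p) :=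
  HomologicalComplex.extendXIso (cK U P) ComplexShape.embeddingUpNat (i := p) rfl ≪≫ cIso U P p

theorem zIso_nat {P Q : (Opens X)ᵒᵖ ⥤ AddCommGrpCat.{u}} (f : P ⟶ Q) (p : ℕ) :
    ((cechZ U).map f).f (p : ℤ) ≫ (zIso U Q p).hom =
      (zIso U P p).hom ≫ (ccFun U p).map f := by
  show (HomologicalComplex.extendMap ((cechComplexFunctor U).map f) ComplexShape.embeddingUpNat).f _ ≫ _ = _
  rw [HomologicalComplex.extendMap_f _ ComplexShape.embeddingUpNat (i := p) (i' := (p : ℤ)) rfl]
  simp only [zIso, Iso.trans_hom, Category.assoc, Iso.inv_hom_id_assoc]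
  congr 1
  refine AddCommGrpCat.hom_ext (AddMonoidHom.ext fun x => ?_)
  exact cIso_map U f p x

theorem zIso_d (P : (Opens X)ᵒᵖ ⥤ AddCommGrpCat.{u}) (p : ℕ) (k : ℤ) (hk : (p : ℤ) + 1 = k)
    (x : ((cechZ U).obj P).X (p : ℤ)) :
    (zIso U P (p + 1)).hom (((cechZ U).obj P).d (p : ℤ) ((p + 1 : ℕ) : ℤ) x) =
      cdiff U P p ((zIso U P p).hom x) := by
  have e : ((cechZ U).obj P).d (p : ℤ) ((p + 1 : ℕ) : ℤ) ≫ (zIso U P (p + 1)).hom =
      (HomologicalComplex.extendXIso (cK U P) ComplexShape.embeddingUpNat (i := p) rfl).hom ≫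
        (cK U P).d p (p + 1) ≫ (cIso U P (p + 1)).hom := by
    show ((cK U P).extend ComplexShape.embeddingUpNat).d _ _ ≫ _ = _
    rw [HomologicalComplex.extend_d_eq (cK U P) ComplexShape.embeddingUpNat (i := p) (j := p + 1) (i' := (p : ℤ)) (j' := ((p + 1 : ℕ) : ℤ)) rfl rfl]
    simp only [zIso, Iso.trans_hom, Category.assoc, Iso.inv_hom_id_assoc]
  exact (ConcreteCategory.congr_hom e x).trans (cIso_d U P p _)

/-- The terms of the extended Čech complex, naturally. -/
def zNatIso (p : ℕ) :
    cechZ U ⋙ HomologicalComplex.eval AddCommGrpCat.{u} (ComplexShape.up ℤ) (p : ℤ) ≅ ccFun U p :=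
  NatIso.ofComponents (fun P => zIso U P p) fun f => zIso_nat U f p

theorem isZero_cech₂ (K : CochainComplex (CohTop.Ab X) ℤ) (a : ℤ) [K.IsStrictlyGE a] (p q : ℤ)
    (h : p < a ∨ q < 0) : IsZero (((CechTot.cech₂ U ((CechTot.presheafCx X).obj K)).X p).X q) := by
  rcases h with h | h
  · exact (HomologicalComplex.eval _ _ q).map_isZero ((cechZ U).map_isZero
      ((sheafToPresheaf (Opens.grothendieckTopology X) AddCommGrpCat.{u}).map_isZero
        (K.isZero_of_isStrictlyGE a p h)))
  · exact HomologicalComplex.isZero_extend_X _ _ _ fun j hj => by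
      have : (j : ℤ) = q := hj
      omega

variable {K I : CochainComplex (CohTop.Ab X) ℤ} (φ : K ⟶ I)

theorem quasiIso_cc (p : ℕ)
    (h : ∀ c : Fin (p + 1) → ι,
      QuasiIso ((CohCx.sectCx (Opens.grothendieckTopology X) (inter U c)).map φ)) :
    QuasiIso (((ccFun U p).mapHomologicalComplex (ComplexShape.up ℤ)).map
      ((CechTot.presheafCx X).map φ)) := by
  refine quasiIso_of_elements _ (fun i y hy => ?_) fun i x hx y hy => ?_
  · choose x hx z hz using fun c => @exists_preimage _ _
      ((CohCx.sectCx (Opens.grothendieckTopology X) (inter U c)).map φ) (h c) i (y c) (congrFun hy c)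
    exact ⟨x, funext hx, z, funext hz⟩
  · choose w hw using fun c => @exists_primitive _ _
      ((CohCx.sectCx (Opens.grothendieckTopology X) (inter U c)).map φ) (h c) i (x c) (congrFun hx c)
      (y c) (congrFun hy c)
    exact ⟨w, funext hw⟩

theorem quasiIso_cech₂ (a : ℤ) [K.IsStrictlyGE a] [I.IsStrictlyGE a]
    (h : ∀ (p : ℕ) (c : Fin (p + 1) → ι),
      QuasiIso ((CohCx.sectCx (Opens.grothendieckTopology X) (inter U c)).map φ)) :
    QuasiIso (((cechZ U).mapHomologicalComplex (ComplexShape.up ℤ)).map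
      ((CechTot.presheafCx X).map φ)) := by
  refine quasiIso_of_eval _ fun q => ?_
  rcases lt_or_ge q 0 with hq | hq
  · refine quasiIso_of_elements _ (fun i y _ => ?_) fun i x _ y _ => ?_
    · exact ⟨0, map_zero _, 0,
        (AddCommGrpCat.subsingleton_of_isZero (isZero_cech₂ U I a i q (Or.inr hq))).elim _ _⟩
    · exact ⟨0, (AddCommGrpCat.subsingleton_of_isZero (isZero_cech₂ U K a i q (Or.inr hq))).elim _ _⟩
  · obtain ⟨p, rfl⟩ := Int.eq_ofNat_of_zero_le hq
    let α := NatIso.mapHomologicalComplex (zNatIso U p) (ComplexShape.up ℤ)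
    refine ((HomologicalComplex.quasiIso AddCommGrpCat.{u} (ComplexShape.up ℤ)).arrow_mk_iso_iff
      (Arrow.isoMk' _ _ (α.app ((CechTot.presheafCx X).obj K)) (α.app ((CechTot.presheafCx X).obj I))
        (α.hom.naturality ((CechTot.presheafCx X).map φ)).symm)).2 ?_
    exact quasiIso_cc U φ p (h p)

variable (I)

/-- Global sections mapped to Čech cochains of degree zero. -/
def augZ : (CohCx.sectCx (Opens.grothendieckTopology X) (⊤ : Opens X)).obj I ⟶
    (CechTot.cech₂ U ((CechTot.presheafCx X).obj I)).flip.X 0 where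
  f q := AddCommGrpCat.ofHom (aug U (I.X q).obj (V := ⊤) fun _ => le_top) ≫
    (zIso U (I.X q).obj 0).inv
  comm' q q' _ := by
    show (_ ≫ _) ≫ ((cechZ U).map (I.d q q').hom).f ((0 : ℕ) : ℤ) =
      (I.d q q').hom.app (op ⊤) ≫ _ ≫ _
    have e : (zIso U (I.X q).obj 0).inv ≫ ((cechZ U).map (I.d q q').hom).f ((0 : ℕ) : ℤ) =
        (ccFun U 0).map (I.d q q').hom ≫ (zIso U (I.X q').obj 0).inv := by
      rw [Iso.inv_comp_eq, ← Category.assoc, Iso.eq_comp_inv]
      exact zIso_nat U (I.d q q').hom 0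
    rw [Category.assoc, e, ← Category.assoc, ← Category.assoc]
    congr 1
    ext s
    exact funext fun i => (res_map (I.d q q').hom _ s).symm

theorem zIso_aug (q : ℤ) (s : (I.X q).obj.obj (op (⊤ : Opens X))) :
    (zIso U (I.X q).obj 0).hom ((augZ U I).f q s) = aug U (I.X q).obj (fun _ => le_top) s :=
  ConcreteCategory.congr_hom (zIso U (I.X q).obj 0).inv_hom_id _

theorem augZ_d : augZ U I ≫ (CechTot.cech₂ U ((CechTot.presheafCx X).obj I)).flip.d 0 1 = 0 := by
  ext q s
  refine ((ConcreteCategory.bijective_of_isIso (zIso U (I.X q).obj 1).hom).1) ?_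
  refine (zIso_d U (I.X q).obj 0 _ rfl ((augZ U I).f q s)).trans ?_
  rw [zIso_aug, cdiff_aug]
  exact (map_zero _).symm

/-- Global sections mapped to the flipped Čech double complex. -/
def augTot : outer ((CohCx.sectCx (Opens.grothendieckTopology X) (⊤ : Opens X)).obj I) ⟶
    (CechTot.cech₂ U ((CechTot.presheafCx X).obj I)).flip :=
  HomologicalComplex.mkHomFromSingle (augZ U I) fun k (hk : (0 : ℤ) + 1 = k) => by
    obtain rfl : k = 1 := by omega
    exact augZ_d U I

theorem quasiIso_augTot (hcov : (⊤ : Opens X) ≤ iSup U) (a : ℤ) [I.IsStrictlyGE a]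
    (hI : ∀ q, Injective (I.X q)) : QuasiIso (augTot U I) := by
  refine quasiIso_of_eval _ fun q => ?_
  haveI := hI q
  have hψ : ∀ s, (zIso U (I.X q).obj 0).hom (((augTot U I).f 0).f q s) =
      aug U (I.X q).obj (fun _ => le_top)
        ((HomologicalComplex.singleObjXSelf (ComplexShape.up ℤ) 0
          ((CohCx.sectCx (Opens.grothendieckTopology X) (⊤ : Opens X)).obj I)).hom.f q s) := fun s => by
    have e : (augTot U I).f 0 = (HomologicalComplex.singleObjXSelf (ComplexShape.up ℤ) 0
        ((CohCx.sectCx (Opens.grothendieckTopology X) (⊤ : Opens X)).obj I)).hom ≫ augZ U I :=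
      HomologicalComplex.mkHomFromSingle_f _ _
    rw [e]
    exact zIso_aug U I q _
  let σ := (HomologicalComplex.singleObjXSelf (ComplexShape.up ℤ) 0
    ((CohCx.sectCx (Opens.grothendieckTopology X) (⊤ : Opens X)).obj I))
  have hσ : Function.Bijective (σ.hom.f q) :=
    ConcreteCategory.bijective_of_isIso ((HomologicalComplex.eval _ (ComplexShape.up ℤ) q).map σ.hom)
  have hz : ∀ (p : ℤ), p ≠ 0 → Subsingleton (((outer
      ((CohCx.sectCx (Opens.grothendieckTopology X) (⊤ : Opens X)).obj I)).X p).X q) := fun p hp =>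
    AddCommGrpCat.subsingleton_of_isZero (isZero_outer _ p q hp)
  have hb : ∀ (p : ℕ), Function.Bijective (zIso U (I.X q).obj p).hom := fun p =>
    ConcreteCategory.bijective_of_isIso _
  refine quasiIso_of_elements _ (fun i y hy => ?_) fun i x hx y hy => ?_
  · rcases lt_or_ge i 0 with hi | hi
    · exact ⟨0, map_zero _, 0,
        (AddCommGrpCat.subsingleton_of_isZero (isZero_cech₂ U I a q i (Or.inr hi))).elim _ _⟩
    obtain ⟨p, rfl⟩ := Int.eq_ofNat_of_zero_le hi
    have hc : cdiff U (I.X q).obj p ((zIso U (I.X q).obj p).hom y) = 0 := by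
      rw [← zIso_d U (I.X q).obj p _ rfl]
      exact (congrArg _ hy).trans (map_zero _)
    cases p with
    | zero =>
      obtain ⟨t, ht⟩ := aug_exact (I.X q) (fun _ => le_top) hcov _ hc
      obtain ⟨x, rfl⟩ := hσ.2 t
      refine ⟨x, ?_, 0, ?_⟩
      · exact (hz ((0 : ℕ) + 1 : ℤ) (by omega)).elim _ _
      · rw [map_zero, add_zero]
        exact (hb 0).1 (ht.symm.trans (hψ x).symm)
    | succ p =>
      obtain ⟨b, hb'⟩ := injective_cexact U (I.X q) p _ hc
      obtain ⟨z, rfl⟩ := (hb p).2 b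
      have hp : ((p + 1 : ℕ) : ℤ) - 1 = (p : ℤ) := by omega
      refine ⟨0, map_zero _, ?_⟩
      rw [hp]
      refine ⟨z, ?_⟩
      rw [map_zero, zero_add]
      exact (hb (p + 1)).1 (hb'.symm.trans (zIso_d U (I.X q).obj p _ rfl z).symm)
  · by_cases hi : i = 0
    · subst hi
      refine ⟨0, ?_⟩
      obtain rfl : y = 0 :=
        (AddCommGrpCat.subsingleton_of_isZero (isZero_cech₂ U I a q (0 - 1) (Or.inr (by omega)))).elim _ _
      rw [map_zero] at hy ⊢
      refine hσ.1 ((aug_injective (I.X q) (fun _ => le_top) hcov ?_).trans (map_zero _).symm)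
      rw [map_zero]
      exact (hψ x).symm.trans ((congrArg _ hy).trans (map_zero _))
    · exact ⟨0, (hz i hi).elim _ _⟩

variable [HasDerivedCategory.{u} (CohTop.Ab X)]

/-- Čech hypercohomology of an acyclic cover computes hypercohomology. -/
theorem nonempty_hyperH_equiv (hcov : iSup U = ⊤) (K : CochainComplex (CohTop.Ab X) ℤ) (a : ℤ)
    (ha : ∀ i : ℤ, i < a → IsZero (K.X i))
    (h : ∀ (p : ℕ) (c : Fin (p + 1) → ι) (i : ℤ) (q : ℕ),
      Subsingleton (CohTop.HU (K.X i) (q + 1) (iInf fun k => U (c k)))) (n : ℤ) :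
    Nonempty (↑(CechTot.hyperH U ((CechTot.presheafCx X).obj K) n) ≃+
      CohCx.HDU (DerivedCategory.Q.obj K) n (⊤ : Opens X)) := by
  haveI : K.IsStrictlyGE a := (CochainComplex.isStrictlyGE_iff K a).2 ha
  obtain ⟨J, φ, hφ, hJ, hJge⟩ :=
    CochainComplex.Plus.modelCategoryQuillen.exists_quasiIso_injective K a
  haveI := hφ
  haveI := hJ
  haveI := hJge
  have hsect : ∀ (p : ℕ) (c : Fin (p + 1) → ι),
      QuasiIso ((CohCx.sectCx (Opens.grothendieckTopology X) (inter U c)).map φ) := fun p c => by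
    refine SpSeqLib.quasiIso_map (SiteBase.evA (Opens.grothendieckTopology X) (op (inter U c))) φ a
      (fun m q => ?_) (fun m => SpSeqLib.isAcyclicFor_of_injective _ _)
    obtain ⟨i⟩ := SpSeqLib.nonempty_rightDerived_evA_iso (K.X m) (inter U c) (q + 1)
    haveI : Subsingleton (CohSite.HU (K.X m) (q + 1) (inter U c)) := h p c m q
    exact (AddCommGrpCat.isZero_of_subsingleton _).of_iso i
  haveI := quasiIso_cech₂ U φ a hsect
  haveI := quasiIso_augTot U J hcov.ge a hJ
  have hbK := isZero_cech₂ U K a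
  have hbJ := isZero_cech₂ U J a
  haveI h₁ := Groth.Agent.S8566.result _ _ (((cechZ U).mapHomologicalComplex (ComplexShape.up ℤ)).map
    ((CechTot.presheafCx X).map φ)) a 0 hbK hbJ
  haveI h₂ := Groth.Agent.S8566.result _ _ (augTot U J) 0 a (fun p q hpq => by
      by_cases hp : p = 0
      · subst hp
        refine IsZero.of_iso ?_ ((HomologicalComplex.eval AddCommGrpCat.{u} (ComplexShape.up ℤ) q).mapIso
          (HomologicalComplex.singleObjXSelf (ComplexShape.up ℤ) 0
            ((CohCx.sectCx (Opens.grothendieckTopology X) (⊤ : Opens X)).obj J)))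
        exact ((sheafToPresheaf (Opens.grothendieckTopology X) AddCommGrpCat.{u} ⋙
          (evaluation _ AddCommGrpCat.{u}).obj (op (⊤ : Opens X))).map_isZero
            (J.isZero_of_isStrictlyGE a q (by omega)))
      · exact isZero_outer _ p q hp)
    (fun p q hpq => hbJ q p hpq.symm)
  haveI := isIso_toTotal ((CohCx.sectCx (Opens.grothendieckTopology X) (⊤ : Opens X)).obj J)
  let H := HomologicalComplex.homologyFunctor AddCommGrpCat.{u} (ComplexShape.up ℤ) n
  let e : CechTot.hyperH U ((CechTot.presheafCx X).obj K) n ≅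
      ((CohCx.sectCx (Opens.grothendieckTopology X) (⊤ : Opens X)).obj J).homology n :=
    asIso (HomologicalComplex.homologyMap (HomologicalComplex₂.total.map
        (((cechZ U).mapHomologicalComplex (ComplexShape.up ℤ)).map
          ((CechTot.presheafCx X).map φ)) (ComplexShape.up ℤ)) n) ≪≫
      H.mapIso ((CechTot.cech₂ U ((CechTot.presheafCx X).obj J)).totalFlipIso
        (ComplexShape.up ℤ)).symm ≪≫
      (asIso (HomologicalComplex.homologyMap
        (HomologicalComplex₂.total.map (augTot U J) (ComplexShape.up ℤ)) n)).symm ≪≫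
      H.mapIso (asIso (toTotal ((CohCx.sectCx (Opens.grothendieckTopology X) (⊤ : Opens X)).obj J))).symm
  obtain ⟨d⟩ := HdRLib.nonempty_HDU_sections (⊤ : Opens X) J a (fun m q =>
    haveI := hJ m
    subsingleton_of_injective (⊤ : Opens X) (J.X m) q) n
  haveI : IsIso (Q.map φ) := inferInstance
  let s : (Q.obj K)⟦n⟧ ≅ (Q.obj J)⟦n⟧ := (shiftFunctor _ n).mapIso (asIso (Q.map φ))
  let e₀ : CohCx.HDU (Q.obj K) n (⊤ : Opens X) ≃+ CohCx.HDU (Q.obj J) n (⊤ : Opens X) :=
    { s.homToEquiv with map_add' := fun x y => Preadditive.add_comp _ _ _ x y s.hom }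
  exact ⟨(e₀.trans (d.trans e.addCommGroupIsoToAddEquiv.symm)).symm⟩

end Groth.Agent.CechSSLib
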