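import Groth.Agent.HdRLib.Single

/-!
# Classes of cocycles with values in a K-injective complex
-/

set_option autoImplicit false
set_option backward.isDefEq.respectTransparency false
set_option linter.style.haveILetI false

universe w v u

open CategoryTheory CategoryTheory.Limits DerivedCategory

noncomputable section

namespace Groth.Agent.CechSSLib

open CochainComplex.HomComplex

variable {A : Type u} [Category.{v} A] [Abelian A] [HasDerivedCategory.{w} A]
  (I : CochainComplex A ℤ)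

/-- The class of a cocycle `f : M ⟶ I^n` in the derived category. -/
def coh (n : ℤ) {M : A} (f : M ⟶ I.X n) (hf : f ≫ I.d n (n + 1) = 0) :
    (DerivedCategory.singleFunctor A 0).obj M ⟶ (Q.obj I)⟦n⟧ :=
  ((singleFunctorIsoCompQ A 0).app M).hom ≫
    Q.map (Cocycle.equivHomShift.symm (Cocycle.fromSingleMk f (zero_add n) (n + 1) rfl hf)) ≫
      (Q.commShiftIso n).hom.app I

theorem coh_add (n : ℤ) {M : A} (f g : M ⟶ I.X n) (hf : f ≫ I.d n (n + 1) = 0)
    (hg : g ≫ I.d n (n + 1) = 0) (h : (f + g) ≫ I.d n (n + 1) = 0) :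
    coh I n (f + g) h = coh I n f hf + coh I n g hg := by
  simp only [coh, Cocycle.fromSingleMk_add f g (zero_add n) (n + 1) rfl hf hg, map_add,
    Functor.map_add, Preadditive.add_comp, Preadditive.comp_add]

theorem coh_precomp (n : ℤ) {M M' : A} (a : M' ⟶ M) (f : M ⟶ I.X n) (hf : f ≫ I.d n (n + 1) = 0)
    (h : (a ≫ f) ≫ I.d n (n + 1) = 0) :
    coh I n (a ≫ f) h = (DerivedCategory.singleFunctor A 0).map a ≫ coh I n f hf := by
  have e : Cocycle.fromSingleMk (a ≫ f) (zero_add n) (n + 1) rfl h =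
      (Cocycle.fromSingleMk f (zero_add n) (n + 1) rfl hf).precomp
        ((CochainComplex.singleFunctor A 0).map a) :=
    Subtype.ext (Cochain.fromSingleMk_precomp a f (zero_add n))
  simp only [coh, e, Cocycle.equivHomShift_symm_precomp, Functor.map_comp, Category.assoc]
  refine (Category.assoc _ _ _).symm.trans (Eq.trans ?_ (Category.assoc _ _ _))
  exact congrArg (· ≫ _) ((singleFunctorIsoCompQ A 0).hom.naturality a).symm

variable [I.IsKInjective]

theorem coh_eq (n : ℤ) {M : A} (f : M ⟶ I.X n) (hf : f ≫ I.d n (n + 1) = 0) :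
    coh I n f hf = ((singleFunctorIsoCompQ A 0).app M).hom ≫
      HdRLib.classEquivD _ I n
        (CohomologyClass.mk (Cocycle.fromSingleMk f (zero_add n) (n + 1) rfl hf)) := by
  refine congrArg (_ ≫ ·) ?_
  show _ = ((quotientCompQhIso A).app _).inv ≫ Qh.map ((HomotopyCategory.quotient A (ComplexShape.up ℤ)).map
    (Cocycle.equivHomShift.symm (Cocycle.fromSingleMk f (zero_add n) (n + 1) rfl hf))) ≫
      ((quotientCompQhIso A).app _).hom ≫ ((Q (C := A)).commShiftIso n).hom.app I
  refine Eq.trans ?_ (congrArg (_ ≫ ·) (Category.assoc _ _ _))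
  refine Eq.trans ?_ (Category.assoc _ _ _)
  exact congrArg (· ≫ _) (NatIso.naturality_2 (quotientCompQhIso A)
    (Cocycle.equivHomShift.symm (Cocycle.fromSingleMk f (zero_add n) (n + 1) rfl hf))).symm

theorem coh_surjective (n : ℤ) {M : A}
    (ξ : (DerivedCategory.singleFunctor A 0).obj M ⟶ (Q.obj I)⟦n⟧) :
    ∃ (f : M ⟶ I.X n) (hf : f ≫ I.d n (n + 1) = 0), coh I n f hf = ξ := by
  let s := (singleFunctorIsoCompQ A 0).app M
  obtain ⟨c, hc⟩ := (HdRLib.classEquivD _ I n).surjective (s.inv ≫ ξ)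
  obtain ⟨z, rfl⟩ := CohomologyClass.mk_surjective c
  obtain ⟨f, hf, rfl⟩ := Cocycle.fromSingleMk_surjective z n (zero_add n) (n + 1) rfl
  refine ⟨f, hf, ?_⟩
  rw [coh_eq]
  exact (congrArg (s.hom ≫ ·) hc).trans (Iso.hom_inv_id_assoc _ _)

theorem coh_eq_zero_iff (n : ℤ) {M : A} (f : M ⟶ I.X (n + 1))
    (hf : f ≫ I.d (n + 1) (n + 1 + 1) = 0) :
    coh I (n + 1) f hf = 0 ↔ ∃ g : M ⟶ I.X n, g ≫ I.d n (n + 1) = f := by
  rw [coh_eq, Preadditive.IsIso.comp_left_eq_zero,
    map_eq_zero_iff _ (HdRLib.classEquivD _ I (n + 1)).injective, CohomologyClass.mk_eq_zero_iff,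
    Cocycle.fromSingleMk_mem_coboundaries_iff f (zero_add _) (n + 1 + 1) rfl hf n (by omega)]

end Groth.Agent.CechSSLib
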