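import Groth.Agent.CechSSLib.Homology
import Groth.Agent.CohBase.Injective

/-!
# A complex of injective sheaves with classes of its cocycles
-/

set_option autoImplicit false
set_option linter.style.haveILetI false

universe u

open CategoryTheory CategoryTheory.Limits Opposite TopologicalSpace

noncomputable section

namespace Groth.Agent.CechSSLib

open CohBase

variable {X : Type u} [TopologicalSpace X]

/-- The map of sections over `V` induced by a morphism of sheaves. -/
abbrev sec {F G : AbSh X} (f : F ⟶ G) (V : Opens X) : F.obj.obj (op V) →+ G.obj.obj (op V) :=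
  (f.hom.app (op V)).hom

/-- A bounded below complex of injective sheaves, with a presheaf receiving the classes of its
cocycles bijectively modulo coboundaries. -/
structure Data (X : Type u) [TopologicalSpace X] where
  /-- The terms. -/
  F : ℤ → AbSh X
  /-- The differential. -/
  d : ∀ q, F q ⟶ F (q + 1)
  d_comp : ∀ q, d q ≫ d (q + 1) = 0
  inj : ∀ q, Injective (F q)
  /-- A lower bound. -/
  a : ℤ
  zero : ∀ q, q < a → ∀ V : Opens X, Subsingleton ((F q).obj.obj (op V))
  /-- The presheaves of classes. -/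
  H : ℤ → (Opens X)ᵒᵖ ⥤ AddCommGrpCat.{u}
  /-- The class of a cocycle. -/
  cl : ∀ (q : ℤ) (V : Opens X), (sec (d q) V).ker →+ (H q).obj (op V)
  cl_surjective : ∀ q V, Function.Surjective (cl q V)
  cl_res : ∀ (q : ℤ) {V W : Opens X} (h : W ≤ V) (x : (sec (d q) V).ker)
    (y : (sec (d q) W).ker), res (F q).obj h x.1 = y.1 → res (H q) h (cl q V x) = cl q W y
  cl_eq_zero_iff : ∀ (q : ℤ) (V : Opens X) (x : (sec (d (q + 1)) V).ker),
    cl (q + 1) V x = 0 ↔ ∃ y, sec (d q) V y = x.1

variable {ι : Type u} {U : ι → Opens X} (D : Data X)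

/-- The differential on Čech cochains induced by that of the complex. -/
def DD (q : ℤ) (p : ℕ) : CC U (D.F q).obj p →+ CC U (D.F (q + 1)).obj p :=
  ccMap U (D.d q).hom p

theorem DD_DD (q : ℤ) (p : ℕ) (c : CC U (D.F q).obj p) : DD D (q + 1) p (DD D q p c) = 0 := by
  funext i
  exact congrArg (fun φ : D.F q ⟶ D.F (q + 1 + 1) => φ.hom.app _ (c i)) (D.d_comp q)

theorem DD_cdiff (q : ℤ) (p : ℕ) (c : CC U (D.F q).obj p) :
    DD D q (p + 1) (cdiff U _ p c) = cdiff U _ p (DD D q p c) :=
  (cdiff_ccMap U _ p c).symm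

theorem sec_sec (q : ℤ) (V : Opens X) (s : (D.F q).obj.obj (op V)) :
    sec (D.d (q + 1)) V (sec (D.d q) V s) = 0 :=
  congrArg (fun φ : D.F q ⟶ D.F (q + 1 + 1) => φ.hom.app (op V) s) (D.d_comp q)

theorem DD_aug (q : ℤ) (s : (D.F q).obj.obj (op (⊤ : Opens X))) :
    DD D q 0 (aug U _ (fun _ => le_top) s) = aug U _ (fun _ => le_top) (sec (D.d q) ⊤ s) := by
  funext i
  exact (res_map (D.d q).hom _ s).symm

/-- Čech cochains killed by the differential of the complex. -/
abbrev Ver (q : ℤ) (p : ℕ) : AddSubgroup (CC U (D.F q).obj p) := (DD D q p).ker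

theorem apply_mem_ker {q : ℤ} {p : ℕ} (z : Ver (U := U) D q p) (i : Fin (p + 1) → ι) :
    z.1 i ∈ (sec (D.d q) (inter U i)).ker :=
  congrFun z.2 i

/-- The classes of the components of a cochain. -/
def kappa (q : ℤ) (p : ℕ) : Ver (U := U) D q p →+ CC U (D.H q) p :=
  Pi.addMonoidHom fun i => (D.cl q (inter U i)).comp
    (((Pi.evalAddMonoidHom (fun i : Fin (p + 1) → ι => ((D.F q).obj.obj (op (inter U i)) : Type u))
      i).comp (Ver D q p).subtype).codRestrict _ fun z => apply_mem_ker D z i)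

theorem kappa_apply (q : ℤ) (p : ℕ) (z : Ver (U := U) D q p) (i : Fin (p + 1) → ι) :
    kappa D q p z i = D.cl q (inter U i) ⟨z.1 i, apply_mem_ker D z i⟩ := rfl

theorem cdiff_mem_ver {q : ℤ} {p : ℕ} (z : Ver (U := U) D q p) :
    cdiff U _ p z.1 ∈ Ver (U := U) D q (p + 1) := by
  rw [AddMonoidHom.mem_ker, DD_cdiff, (z.2 : DD D q p z.1 = 0), map_zero]

theorem kappa_cdiff (q : ℤ) (p : ℕ) (z : Ver (U := U) D q p) :
    kappa D q (p + 1) ⟨_, cdiff_mem_ver D z⟩ = cdiff U (D.H q) p (kappa D q p z) := by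
  funext i
  let r : ∀ j : Fin (p + 2), (sec (D.d q) (inter U i)).ker := fun j =>
    ⟨res (D.F q).obj (inter_comp_le U i j.succAbove) (z.1 (i ∘ j.succAbove)),
      (res_map (D.d q).hom _ _).symm.trans
        ((congrArg _ (apply_mem_ker D z (i ∘ j.succAbove))).trans (map_zero _))⟩
  have e : (⟨cdiff U _ p z.1 i, apply_mem_ker D ⟨_, cdiff_mem_ver D z⟩ i⟩ :
      (sec (D.d q) (inter U i)).ker) = ∑ j : Fin (p + 2), (-1 : ℤ) ^ (j : ℕ) • r j := by
    apply Subtype.ext
    rw [AddSubgroup.val_finset_sum]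
    exact cdiff_apply U _ z.1 i
  rw [kappa_apply, e, map_sum, cdiff_apply]
  refine Finset.sum_congr rfl fun j _ => ?_
  rw [map_zsmul]
  exact congrArg _ (D.cl_res q _ ⟨_, apply_mem_ker D z _⟩ (r j) rfl).symm

theorem exists_eq_of_kappa_eq_zero {q : ℤ} {p : ℕ} {z : Ver (U := U) D (q + 1) p}
    (h : kappa D (q + 1) p z = 0) : ∃ e, DD D q p e = z.1 := by
  choose e he using fun i => (D.cl_eq_zero_iff q _ _).1 (congrFun h i)
  exact ⟨e, funext he⟩

theorem kappa_surjective (q : ℤ) (p : ℕ) : Function.Surjective (kappa (U := U) D q p) := fun β => by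
  choose b hb using fun i => D.cl_surjective q (inter U i) (β i)
  exact ⟨⟨fun i => (b i).1, funext fun i => (b i).2⟩, funext hb⟩

end Groth.Agent.CechSSLib
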