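import Groth.Agent.CechSSLib.Data
import Groth.Prelude.Def_HTor

/-!
# The filtration of hypercohomology by the Čech degree
-/

set_option autoImplicit false
set_option linter.style.haveILetI false

universe u v

open CategoryTheory CategoryTheory.Limits Opposite TopologicalSpace

noncomputable section

namespace Groth.Agent.CechSSLib

open CohBase

variable {X : Type u} [TopologicalSpace X] {ι : Type u} {U : ι → Opens X} (D : Data X)

theorem exists_cdiff (q : ℤ) (p : ℕ) (c : CC U (D.F q).obj (p + 1)) (hc : cdiff U _ (p + 1) c = 0) :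
    ∃ b, cdiff U _ p b = c := by
  haveI := D.inj q
  exact injective_cexact U (D.F q) p c hc

/-- Čech cocycles killed by the differential of the complex. -/
abbrev Zz (q : ℤ) (p : ℕ) : AddSubgroup (CC U (D.F q).obj p) :=
  (cdiff U (D.F q).obj p).ker ⊓ Ver D q p

/-- Cochains with Čech differential killed by the differential of the complex. -/
abbrev Pre (q : ℤ) (p : ℕ) : AddSubgroup (CC U (D.F q).obj p) :=
  ((DD D q (p + 1)).comp (cdiff U _ p)).ker

/-- The Čech differential, onto cocycles. -/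
def toZz (q : ℤ) (p : ℕ) : Pre (U := U) D q p →+ Zz (U := U) D q (p + 1) :=
  ((cdiff U _ p).comp (Pre D q p).subtype).codRestrict _ fun c => ⟨cdiff_cdiff _ _ _, c.2⟩

theorem toZz_surjective (q : ℤ) (p : ℕ) : Function.Surjective (toZz (U := U) D q p) := fun z => by
  obtain ⟨b, hb⟩ := exists_cdiff D q p z.1 z.2.1
  exact ⟨⟨b, (congrArg (DD D q (p + 1)) hb).trans z.2.2⟩, Subtype.ext hb⟩

/-- The differential of the complex, one Čech degree lower. -/
def down (q : ℤ) (p : ℕ) : Pre (U := U) D q p →+ Zz (U := U) D (q + 1) p :=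
  ((DD D q p).comp (Pre D q p).subtype).codRestrict _
    fun c => ⟨(DD_cdiff D q p c.1).symm.trans c.2, DD_DD D q p c.1⟩

variable (n : ℤ)

/-- The classes of the cocycles killed by the Čech differential and with image in total degree `n`,
killing the images of Čech cocycles. -/
def Good (p : ℕ) (L : ∀ q : ℤ, q + (p : ℤ) = n → Zz (U := U) D q p →+ (D.H n).obj (op ⊤)) : Prop :=
  ∀ (q : ℤ) (h : q + 1 + (p : ℤ) = n) (c : Pre (U := U) D q p),
    cdiff U _ p c.1 = 0 → L (q + 1) h (down D q p c) = 0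

/-- The class of a global cocycle, in total degree `n`. -/
def top (q : ℤ) (h : q + ((0 : ℕ) : ℤ) = n) : (sec (D.d q) ⊤).ker →+ (D.H n).obj (op ⊤) := by
  have e : q = n := by simpa using h
  subst e
  exact D.cl q ⊤

theorem top_self (h : n + ((0 : ℕ) : ℤ) = n) : top D n n h = D.cl n ⊤ := rfl

/-- Global cocycles are the Čech `0`-cocycles killed by the differential of the complex. -/
def eps (q : ℤ) : (sec (D.d q) ⊤).ker →+ Zz (U := U) D q 0 :=
  ((aug U (D.F q).obj (V := ⊤) fun _ => le_top).comp (AddMonoidHom.ker (sec (D.d q) ⊤)).subtype).codRestrict _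
    fun s => ⟨cdiff_aug (D.F q).obj (fun _ => le_top) s.1, by
      show DD D q 0 (aug U (D.F q).obj (fun _ => le_top) s.1) = 0
      rw [DD_aug, show sec (D.d q) ⊤ s.1 = 0 from s.2, map_zero]⟩

variable (hcov : ⊤ ≤ iSup U)

include hcov in
theorem eps_bijective (q : ℤ) : Function.Bijective (eps (U := U) D q) :=
  ⟨fun _ _ h => Subtype.ext (aug_injective (D.F q) (fun _ => le_top) hcov (congrArg Subtype.val h)), fun z => by
    obtain ⟨s, hs⟩ := aug_exact (D.F q) (fun _ => le_top) hcov z.1 z.2.1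
    refine ⟨⟨s, aug_injective (D.F (q + 1)) _ hcov ((DD_aug D q s).symm.trans ?_)⟩, Subtype.ext hs⟩
    rw [hs, map_zero]
    exact z.2.2⟩

/-- Cochain level edge maps in Čech degree zero. -/
def L0 : {L // Good (U := U) D n 0 L} :=
  ⟨fun q h => (top D n q h).comp
      (AddEquiv.ofBijective _ (eps_bijective D hcov q)).symm.toAddMonoidHom, fun q h c hc => by
    obtain rfl : q + 1 = n := by simpa using h
    obtain ⟨s, hs⟩ := aug_exact (D.F q) (fun _ => le_top) hcov c.1 hc
    let t : (sec (D.d (q + 1)) ⊤).ker := ⟨sec (D.d q) ⊤ s, sec_sec D q ⊤ s⟩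
    have e : eps D (q + 1) t = down D q 0 c := Subtype.ext <| by
      show aug U (D.F (q + 1)).obj (fun _ => le_top) (sec (D.d q) ⊤ s) = DD D q 0 c.1
      rw [← hs, DD_aug]
    show top D (q + 1) (q + 1) h ((AddEquiv.ofBijective _ (eps_bijective D hcov (q + 1))).symm
      (down D q 0 c)) = 0
    rw [← e, top_self]
    refine Eq.trans (congrArg (D.cl (q + 1) ⊤)
      ((AddEquiv.ofBijective _ (eps_bijective D hcov (q + 1))).symm_apply_apply t)) ?_
    exact (D.cl_eq_zero_iff q ⊤ t).2 ⟨s, rfl⟩⟩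

/-- Cochain level edge maps, one Čech degree higher. -/
theorem exists_step (p : ℕ) (L : {L // Good (U := U) D n p L}) :
    ∃ L' : {L // Good (U := U) D n (p + 1) L},
      ∀ (q : ℤ) (h : q + ((p + 1 : ℕ) : ℤ) = n) (h' : q + 1 + (p : ℤ) = n) (c : Pre (U := U) D q p),
        L'.1 q h (toZz D q p c) = L.1 (q + 1) h' (down D q p c) := by
  have hex : ∀ (q : ℤ) (h : q + ((p + 1 : ℕ) : ℤ) = n),
      ∃ ψ : Zz (U := U) D q (p + 1) →+ (D.H n).obj (op ⊤),
        ∀ c, ψ (toZz D q p c) = L.1 (q + 1) (by push_cast at h; omega) (down D q p c) := fun q h =>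
    addMonoidHom_descend (toZz D q p) (toZz_surjective D q p)
      ((L.1 (q + 1) (by push_cast at h; omega)).comp (down D q p)) fun c hc =>
      L.2 q _ c (congrArg Subtype.val hc)
  choose ψ hψ using hex
  refine ⟨⟨ψ, fun q h c hc => ?_⟩, fun q h h' c => hψ q h c⟩
  obtain ⟨b, hb⟩ := exists_cdiff D q p c.1 hc
  let b' : Pre (U := U) D (q + 1) p := ⟨DD D q p b, by
    show DD D (q + 1) (p + 1) (cdiff U _ p (DD D q p b)) = 0
    rw [← DD_cdiff]
    exact DD_DD D q (p + 1) _⟩
  have e : down D q (p + 1) c = toZz D (q + 1) p b' := Subtype.ext <| by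
    show DD D q (p + 1) c.1 = cdiff U _ p (DD D q p b)
    rw [← hb, DD_cdiff]
  have e' : down D (q + 1) p b' = 0 := Subtype.ext (DD_DD D q p b)
  rw [e, hψ, e', map_zero]

/-- Cochain level edge maps. -/
def Ls : ∀ p : ℕ, {L // Good (U := U) D n p L}
  | 0 => L0 D n hcov
  | p + 1 => (exists_step D n p (Ls p)).choose

/-- Cochain level edge maps. -/
abbrev L (p : ℕ) (q : ℤ) (h : q + (p : ℤ) = n) : Zz (U := U) D q p →+ (D.H n).obj (op ⊤) :=
  (Ls D n hcov p).1 q h

theorem L_succ {p : ℕ} {q : ℤ} (h : q + ((p + 1 : ℕ) : ℤ) = n) (h' : q + 1 + (p : ℤ) = n)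
    (c : Pre (U := U) D q p) :
    L D n hcov (p + 1) q h (toZz D q p c) = L D n hcov p (q + 1) h' (down D q p c) :=
  (exists_step D n p (Ls D n hcov p)).choose_spec q h h' c

theorem L_zero (h : n + ((0 : ℕ) : ℤ) = n) (t : (sec (D.d n) ⊤).ker) :
    L D n hcov 0 n h (eps D n t) = D.cl n ⊤ t :=
  (congrArg (top D n n h) ((AddEquiv.ofBijective _ (eps_bijective D hcov n)).symm_apply_apply t)).trans rfl

/-- The filtration of `H^n` by Čech degree. -/
def G (p : ℕ) : Submodule ℤ ((D.H n).obj (op ⊤)) :=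
  AddSubgroup.toIntSubmodule (L D n hcov p (n - p) (by omega)).range

theorem mem_G {p : ℕ} {x : (D.H n).obj (op ⊤)} :
    x ∈ G D n hcov p ↔ ∃ (q : ℤ) (h : q + (p : ℤ) = n) (z : Zz (U := U) D q p),
      L D n hcov p q h z = x := by
  refine ⟨fun ⟨z, hz⟩ => ⟨_, _, z, hz⟩, fun ⟨q, h, z, hz⟩ => ?_⟩
  obtain rfl : q = n - p := by omega
  exact ⟨z, hz⟩

theorem G_antitone : Antitone (G D n hcov) := antitone_nat_of_succ_le fun p x hx => by
  obtain ⟨q, h, z, rfl⟩ := (mem_G D n hcov).1 hx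
  obtain ⟨c, rfl⟩ := toZz_surjective D q p z
  have h' : q + 1 + (p : ℤ) = n := by push_cast at h; omega
  exact (mem_G D n hcov).2 ⟨q + 1, h', _, (L_succ D n hcov h h' c).symm⟩

theorem G_zero : G D n hcov 0 = ⊤ := top_unique fun x _ => by
  obtain ⟨t, rfl⟩ := D.cl_surjective n ⊤ x
  exact (mem_G D n hcov).2 ⟨n, by simp, eps D n t, L_zero D n hcov _ t⟩

theorem exists_G_eq_bot : ∃ N, G D n hcov N = ⊥ := by
  refine ⟨(n - D.a + 1).toNat, bot_unique fun x hx => ?_⟩
  obtain ⟨q, h, z, rfl⟩ := (mem_G D n hcov).1 hx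
  have hq : q < D.a := by omega
  have hz : z = 0 := Subtype.ext (funext fun i => (D.zero q hq _).elim _ _)
  rw [hz, map_zero]
  exact zero_mem _

theorem mem_G_one {x : (D.H n).obj (op ⊤)} :
    x ∈ G D n hcov 1 ↔ ∀ i, res (D.H n) (le_top : U i ≤ ⊤) x = 0 := by
  obtain ⟨m, rfl⟩ : ∃ m : ℤ, n = m + 1 := ⟨n - 1, by omega⟩
  constructor
  · intro hx i
    obtain ⟨q, h, z, rfl⟩ := (mem_G D (m + 1) hcov).1 hx
    obtain rfl : q = m := by push_cast at h; omega
    obtain ⟨c, rfl⟩ := toZz_surjective D q 0 z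
    rw [L_succ D (q + 1) hcov (p := 0) h (by simp) c]
    obtain ⟨t, ht⟩ := (eps_bijective D hcov (q + 1)).2 (down D q 0 c)
    rw [← ht, L_zero]
    let ti : (sec (D.d (q + 1)) (U i)).ker := ⟨res (D.F (q + 1)).obj le_top t.1,
      (res_map (D.d (q + 1)).hom _ _).symm.trans ((congrArg _ t.2).trans (map_zero _))⟩
    rw [D.cl_res (q + 1) le_top t ti rfl, D.cl_eq_zero_iff]
    refine ⟨res (D.F q).obj (inter_const (U := U) i).le (c.1 fun _ => i), ?_⟩
    have e : res (D.F (q + 1)).obj ((inter_le U _ 0).trans le_top) t.1 =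
        sec (D.d q) (inter U fun _ : Fin 1 => i) (c.1 fun _ => i) :=
      congrFun (congrArg Subtype.val ht) fun _ => i
    refine (res_map (D.d q).hom _ _).symm.trans ?_
    exact (congrArg (res (D.F (q + 1)).obj _) e.symm).trans (res_res _ _ _ _)
  · intro hx
    obtain ⟨t, rfl⟩ := D.cl_surjective (m + 1) ⊤ x
    have hb : ∀ i, ∃ y, sec (D.d m) (U i) y = res (D.F (m + 1)).obj le_top t.1 := fun i => by
      let ti : (sec (D.d (m + 1)) (U i)).ker := ⟨res (D.F (m + 1)).obj le_top t.1,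
        (res_map (D.d (m + 1)).hom _ _).symm.trans ((congrArg _ t.2).trans (map_zero _))⟩
      refine (D.cl_eq_zero_iff m (U i) ti).1 ?_
      rw [← D.cl_res (m + 1) le_top t ti rfl]
      exact hx i
    choose y hy using hb
    let c : CC U (D.F m).obj 0 := fun i => res (D.F m).obj (inter_le U i 0) (y (i 0))
    have hc : DD D m 0 c = (eps (U := U) D (m + 1) t).1 := funext fun i =>
      (res_map (D.d m).hom _ _).symm.trans
        ((congrArg (res (D.F (m + 1)).obj _) (hy (i 0))).trans (res_res _ _ _ _))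
    let c' : Pre (U := U) D m 0 := ⟨c, by
      show DD D m 1 (cdiff U _ 0 c) = 0
      rw [DD_cdiff, hc]
      exact (eps D (m + 1) t).2.1⟩
    refine (mem_G D (m + 1) hcov).2 ⟨m, by simp, toZz D m 0 c', ?_⟩
    rw [L_succ D (m + 1) hcov (p := 0) _ (by simp) c']
    exact (congrArg _ (Subtype.ext hc : down D m 0 c' = eps D (m + 1) t)).trans (L_zero D _ hcov _ t)

/-- A graded piece is a subquotient through any map with small enough kernel. -/
theorem isSubquotient_grDesc {Z : Type u} {H T : Type u} [AddCommGroup Z] [AddCommGroup H]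
    [AddCommGroup T] (F : ℕ → Submodule ℤ H) (p : ℕ) (f : Z →ₗ[ℤ] H) (hf : F p = f.range)
    (φ : Z →ₗ[ℤ] T) (h : ∀ z, φ z = 0 → f z ∈ F (p + 1)) :
    HTor.IsSubquotient ℤ (HTor.grDesc F p) T := by
  let K := (F (p + 1)).comap f
  refine ⟨K.map φ, LinearMap.range φ, LinearMap.map_le_range, ⟨?_⟩⟩
  let g₁ : Z →ₗ[ℤ] HTor.grDesc F p := (Submodule.mkQ _).comp
    (f.codRestrict (F p) fun z => hf ▸ LinearMap.mem_range_self f z)
  let g₂ : Z →ₗ[ℤ] ↥(LinearMap.range φ) ⧸ (K.map φ).comap (LinearMap.range φ).subtype :=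
    (Submodule.mkQ _).comp φ.rangeRestrict
  have s₁ : Function.Surjective g₁ := fun w => by
    obtain ⟨⟨x, hx⟩, rfl⟩ := Submodule.mkQ_surjective _ w
    obtain ⟨z, rfl⟩ := hf ▸ hx
    exact ⟨z, rfl⟩
  have s₂ : Function.Surjective g₂ :=
    (Submodule.mkQ_surjective _).comp φ.surjective_rangeRestrict
  have k₁ : LinearMap.ker g₁ = K := by
    ext z
    exact Submodule.Quotient.mk_eq_zero _
  have k₂ : LinearMap.ker g₂ = K := by
    ext z
    refine (Submodule.Quotient.mk_eq_zero _).trans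
      ⟨fun ⟨w, hw, e⟩ => ?_, fun hz => ⟨z, hz, rfl⟩⟩
    have h0 : φ (z - w) = 0 := by
      rw [map_sub, sub_eq_zero]
      exact e.symm
    have := add_mem (h _ h0) hw
    rw [← map_add, sub_add_cancel] at this
    exact this
  exact (g₁.quotKerEquivOfSurjective s₁).symm.trans
    ((Submodule.quotEquivOfEq _ _ (k₁.trans k₂.symm)).trans (g₂.quotKerEquivOfSurjective s₂))

theorem isSubquotient_G (p : ℕ) (q : ℤ) (hq : q + (p : ℤ) = n) :
    HTor.IsSubquotient ℤ (HTor.grDesc (G D n hcov) p) ↑((cK U (D.H q)).homology p) := by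
  obtain ⟨m, rfl⟩ : ∃ m : ℤ, q = m + 1 := ⟨q - 1, by omega⟩
  obtain ⟨π, hπ⟩ := exists_proj U (D.H (m + 1)) p
  let ver : Zz (U := U) D (m + 1) p →+ Ver (U := U) D (m + 1) p :=
    AddSubgroup.inclusion inf_le_right
  have hcoc : ∀ z : Zz (U := U) D (m + 1) p,
      cdiff U (D.H (m + 1)) p (kappa D (m + 1) p (ver z)) = 0 := fun z => by
    rw [← kappa_cdiff]
    exact (congrArg (kappa D (m + 1) (p + 1)) ((Subtype.ext z.2.1 : (⟨_, cdiff_mem_ver D (ver z)⟩ : Ver (U := U) D (m + 1) (p + 1)) = 0))).trans (map_zero _)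
  let φ := π.comp (((kappa D (m + 1) p).comp ver).codRestrict (Zc U (D.H (m + 1)) p) hcoc)
  refine isSubquotient_grDesc (G D n hcov) p (L D n hcov p (m + 1) hq).toIntLinearMap ?_
    φ.toIntLinearMap fun z hz => ?_
  · refine Submodule.ext fun x => (mem_G D n hcov).trans ⟨fun ⟨q', h', z, hz⟩ => ?_,
      fun ⟨z, hz⟩ => ⟨_, hq, z, hz⟩⟩
    obtain rfl : q' = m + 1 := by omega
    exact ⟨z, hz⟩
  have hz' : kappa D (m + 1) p (ver z) ∈ Bc U (D.H (m + 1)) p := (hπ _).1 hz
  have h' : m + ((p + 1 : ℕ) : ℤ) = n := by push_cast; omega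
  have key : ∀ w : Zz (U := U) D (m + 1) p, kappa D (m + 1) p (ver w) = 0 →
      L D n hcov p (m + 1) hq w ∈ G D n hcov (p + 1) := fun w hw => by
    obtain ⟨e, he⟩ := exists_eq_of_kappa_eq_zero D hw
    let e' : Pre (U := U) D m p := ⟨e, by
      show DD D m (p + 1) (cdiff U _ p e) = 0
      rw [DD_cdiff, he]
      exact w.2.1⟩
    refine (mem_G D n hcov).2 ⟨m, h', toZz D m p e', ?_⟩
    rw [L_succ D n hcov h' hq e']
    exact congrArg _ (Subtype.ext he : down D m p e' = w)
  cases p with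
  | zero => exact key z hz'
  | succ p =>
    obtain ⟨β, hβ⟩ := hz'
    obtain ⟨b, rfl⟩ := kappa_surjective D (m + 1) p β
    let b' : Pre (U := U) D (m + 1) p := ⟨b.1, cdiff_mem_ver D b⟩
    let w := z - toZz D (m + 1) p b'
    have hw : kappa D (m + 1) (p + 1) (ver w) = 0 := by
      rw [map_sub, map_sub, sub_eq_zero]
      exact (hβ.symm.trans (kappa_cdiff D (m + 1) p b).symm)
    have h0 : L D n hcov (p + 1) (m + 1) hq (toZz D (m + 1) p b') = 0 := by
      rw [L_succ D n hcov hq (by push_cast at hq; omega) b',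
        show down D (m + 1) p b' = 0 from Subtype.ext b.2, map_zero]
    have := key w hw
    rw [map_sub, h0, sub_zero] at this
    exact this

include hcov in
/-- Hypercohomology is filtered by Čech degree with graded pieces subquotients of Čech cohomology
of the presheaves of hypercohomology. -/
theorem exists_filtration :
    ∃ (N : ℕ) (F : ℕ → Submodule ℤ ((D.H n).obj (op ⊤))), Antitone F ∧ F 0 = ⊤ ∧ F N = ⊥ ∧
      F 1 = ⨅ i, AddSubgroup.toIntSubmodule (res (D.H n) (le_top : U i ≤ ⊤)).ker ∧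
      ∀ p : ℕ, HTor.IsSubquotient ℤ (HTor.grDesc F p) ↑((cK U (D.H (n - p))).homology p) := by
  obtain ⟨N, hN⟩ := exists_G_eq_bot D n hcov
  refine ⟨N, G D n hcov, G_antitone D n hcov, G_zero D n hcov, hN, ?_,
    fun p => isSubquotient_G D n hcov p (n - p) (by omega)⟩
  ext x
  simp only [Submodule.mem_iInf]
  exact mem_G_one D n hcov

end Groth.Agent.CechSSLib
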