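import Groth.Agent.CohBase.Leray

/-!
# Čech cocycles map to Čech cohomology
-/

set_option autoImplicit false
set_option linter.style.haveILetI false

universe u

open CategoryTheory CategoryTheory.Limits Opposite TopologicalSpace

namespace Groth.Agent.CechSSLib

open CohBase

variable {X : Type u} [TopologicalSpace X] {ι : Type u} (U : ι → Opens X)
  (P : (Opens X)ᵒᵖ ⥤ AddCommGrpCat.{u})

/-- The projection from Čech cocycles to Čech cohomology has the coboundaries as kernel. -/
theorem exists_proj (p : ℕ) :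
    ∃ π : Zc U P p →+ ↑((cK U P).homology p), ∀ z, π z = 0 ↔ z.1 ∈ Bc U P p := by
  let T := (cK U P).sc p
  have hg : ∀ x : (cK U P).X p, T.g x = 0 ↔ cdiff U P p ((cIso U P p).hom x) = 0 := by
    intro x
    obtain h : (ComplexShape.up ℕ).next p = p + 1 := CochainComplex.next ℕ p
    change (cK U P).d p ((ComplexShape.up ℕ).next p) x = 0 ↔ _
    rw [h, ← cIso_d, map_eq_zero_iff _ (cIso_injective U P (p + 1))]
  let θ : T.g.hom.ker →+ Zc U P p :=
    ((cIso U P p).hom.hom.comp (AddMonoidHom.ker T.g.hom).subtype).codRestrict _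
      fun x => (hg x.1).mp x.2
  have hθ : Function.Bijective θ := by
    refine ⟨fun a b h => Subtype.ext (cIso_injective U P p (congrArg Subtype.val h)), fun z => ?_⟩
    obtain ⟨x, hx⟩ := cIso_surjective U P p z.1
    exact ⟨⟨x, (hg x).mpr (by rw [hx]; exact z.2)⟩, Subtype.ext hx⟩
  have key : ∀ x : T.g.hom.ker, x ∈ T.abToCycles.range ↔ (cIso U P p).hom x.1 ∈ Bc U P p := by
    intro x
    rw [AddMonoidHom.mem_range]
    cases p with
    | zero =>
      have hz : T.f = 0 := (cK U P).shape _ _ (by simp)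
      change _ ↔ (cIso U P 0).hom x.1 = 0
      constructor
      · rintro ⟨y, rfl⟩
        change (cIso U P 0).hom (T.f y) = 0
        rw [hz]
        exact map_zero _
      · exact fun h => ⟨0, Subtype.ext ((map_zero _).trans
          (cIso_injective U P 0 (h.trans (map_zero _).symm)).symm)⟩
    | succ p =>
      obtain h : (ComplexShape.up ℕ).prev (p + 1) = p := CochainComplex.prev_nat_succ p
      have key : (∃ y, T.f y = x.1) ↔ ∃ b, (cK U P).d p (p + 1) b = x.1 := by
        change (∃ y, (cK U P).d ((ComplexShape.up ℕ).prev (p + 1)) (p + 1) y = x.1) ↔ _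
        rw [h]
      constructor
      · rintro ⟨w, rfl⟩
        obtain ⟨y, hy⟩ := key.mp ⟨w, rfl⟩
        exact ⟨(cIso U P p).hom y, by rw [← cIso_d, hy]⟩
      · rintro ⟨b, hb⟩
        obtain ⟨y, rfl⟩ := cIso_surjective U P p b
        rw [← cIso_d] at hb
        obtain ⟨w, hw⟩ := key.mpr ⟨y, cIso_injective U P _ hb⟩
        exact ⟨w, Subtype.ext hw⟩
  let θe := AddEquiv.ofBijective θ hθ
  refine ⟨T.abHomologyIso.addCommGroupIsoToAddEquiv.symm.toAddMonoidHom.comp
    ((QuotientAddGroup.mk' T.abToCycles.range).comp θe.symm.toAddMonoidHom), fun z => ?_⟩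
  show T.abHomologyIso.addCommGroupIsoToAddEquiv.symm (QuotientAddGroup.mk' _ (θe.symm z)) = 0 ↔ _
  rw [AddEquiv.map_eq_zero_iff, QuotientAddGroup.mk'_apply, QuotientAddGroup.eq_zero_iff, key]
  exact iff_of_eq (congrArg (· ∈ Bc U P p) (congrArg Subtype.val (θe.apply_symm_apply z)))

end Groth.Agent.CechSSLib
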