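import Groth.Agent.CechSSLib.Class
import Groth.Agent.CechSSLib.Filt
import Groth.Agent.RlimCrit.AbLimit
import Groth.Prelude.Def_CohCx
import Groth.Prelude.Def_CohB1
import Mathlib.Algebra.Homology.Factorizations.CM5a

/-!
# The Čech-to-hypercohomology filtration
-/

set_option autoImplicit false
set_option backward.isDefEq.respectTransparency false
set_option backward.isDefEq.respectTransparency.types false
set_option linter.style.haveILetI false

universe u

open CategoryTheory CategoryTheory.Limits Opposite TopologicalSpace DerivedCategory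

noncomputable section

namespace Groth.Agent.CechSSLib

open CohBase

variable {X : TopCat.{u}} [HasDerivedCategory.{u} (CohTop.Ab X)]
  {K : CochainComplex (CohTop.Ab X) ℤ} (I : CochainComplex (CohTop.Ab X) ℤ) (φ : K ⟶ I)

/-- Sections as morphisms out of the free sheaf. -/
abbrev hom (V : Opens X) (M : CohTop.Ab X) (s : M.obj.obj (op V)) :
    CohCx.freeSheaf (Opens.grothendieckTopology X) V ⟶ M :=
  (RlimCrit.abSecAdd V M).symm s

theorem hom_comp (V : Opens X) {M N : CohTop.Ab X} (f : M ⟶ N) (s : M.obj.obj (op V)) :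
    hom V M s ≫ f = hom V N (f.hom.app (op V) s) := by
  apply (RlimCrit.abSecAdd V N).injective
  rw [AddEquiv.apply_symm_apply]
  exact (RlimCrit.abSec_comp V _ f).trans
    (congrArg _ ((RlimCrit.abSecAdd V M).apply_symm_apply s))

theorem hom_res {V W : Opens X} (h : W ≤ V) (M : CohTop.Ab X) (s : M.obj.obj (op V)) :
    CohCx.freeSheafMap (Opens.grothendieckTopology X) (homOfLE h) ≫ hom V M s =
      hom W M (res M.obj h s) := by
  apply (RlimCrit.abSecAdd W M).injective
  rw [AddEquiv.apply_symm_apply]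
  exact (RlimCrit.abSec_map (homOfLE h) M _).trans
    (congrArg (res M.obj h) ((RlimCrit.abSecAdd V M).apply_symm_apply s))

theorem hom_mem {q : ℤ} {V : Opens X} (s : (sec (I.d q (q + 1)) V).ker) :
    hom V (I.X q) s.1 ≫ I.d q (q + 1) = 0 := by
  rw [hom_comp]
  exact (congrArg (hom V _) s.2).trans (map_zero _)

variable [QuasiIso φ]

/-- The cohomology of `K` through that of `I`. -/
def shiftIso (q : ℤ) : (Q.obj K)⟦q⟧ ≅ (Q.obj I)⟦q⟧ :=
  (shiftFunctor _ q).mapIso (asIso (Q.map φ))

/-- The hypercohomology class of a section cocycle. -/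
def clK (q : ℤ) (V : Opens X) :
    (sec (I.d q (q + 1)) V).ker →+ (CohCx.HDUPresheaf (Q.obj K) q).obj (op V) :=
  AddMonoidHom.mk' (fun s => coh I q (hom V (I.X q) s.1) (hom_mem I s) ≫ (shiftIso I φ q).inv)
    fun s t => by
      have e : hom V (I.X q) (s + t).1 = hom V (I.X q) s.1 + hom V (I.X q) t.1 :=
        map_add (RlimCrit.abSecAdd V (I.X q)).symm s.1 t.1
      simp only [e]
      rw [coh_add I q _ _ (hom_mem I s) (hom_mem I t), Preadditive.add_comp]

variable [I.IsKInjective]

theorem clK_surjective (q : ℤ) (V : Opens X) : Function.Surjective (clK I φ q V) := fun ξ => by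
  obtain ⟨f, hf, hc⟩ := coh_surjective I q (ξ ≫ (shiftIso I φ q).hom)
  have e : hom V (I.X q) (RlimCrit.abSecAdd V _ f) = f := AddEquiv.symm_apply_apply _ f
  have hs : RlimCrit.abSecAdd V (I.X q) f ∈ (sec (I.d q (q + 1)) V).ker := by
    have := congrArg (RlimCrit.abSecAdd V _) hf
    rw [map_zero] at this
    exact (RlimCrit.abSec_comp V f (I.d q (q + 1))).symm.trans this
  refine ⟨⟨_, hs⟩, ?_⟩
  show coh I q (hom V (I.X q) _) _ ≫ _ = _
  simp only [e]
  rw [hc, Category.assoc, Iso.hom_inv_id, Category.comp_id]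

theorem clK_eq_zero_iff (q : ℤ) (V : Opens X) (x : (sec (I.d (q + 1) (q + 1 + 1)) V).ker) :
    clK I φ (q + 1) V x = 0 ↔ ∃ y, sec (I.d q (q + 1)) V y = x.1 := by
  refine (Preadditive.IsIso.comp_right_eq_zero _ _).trans ((coh_eq_zero_iff I q _ _).trans ?_)
  constructor
  · rintro ⟨g, hg⟩
    refine ⟨RlimCrit.abSecAdd V _ g, (RlimCrit.abSec_comp V g _).symm.trans ?_⟩
    exact (congrArg (RlimCrit.abSecAdd V _) hg).trans (AddEquiv.apply_symm_apply _ _)
  · rintro ⟨y, hy⟩
    exact ⟨hom V _ y, (hom_comp V _ y).trans (congrArg (hom V _) hy)⟩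

theorem clK_res (q : ℤ) {V W : Opens X} (h : W ≤ V) (x : (sec (I.d q (q + 1)) V).ker)
    (y : (sec (I.d q (q + 1)) W).ker) (e : res (I.X q).obj h x.1 = y.1) :
    res (CohCx.HDUPresheaf (Q.obj K) q) h (clK I φ q V x) = clK I φ q W y := by
  show (DerivedCategory.singleFunctor _ 0).map (CohCx.freeSheafMap _ (homOfLE h)) ≫
      coh I q (hom V (I.X q) x.1) (hom_mem I x) ≫ (shiftIso I φ q).inv =
    coh I q (hom W (I.X q) y.1) (hom_mem I y) ≫ (shiftIso I φ q).inv
  have e' : hom W (I.X q) y.1 = CohCx.freeSheafMap _ (homOfLE h) ≫ hom V (I.X q) x.1 := by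
    rw [hom_res, e]
  simp only [e']
  rw [coh_precomp I q _ _ (hom_mem I x), Category.assoc]

/-- The sheaves of a complex of injectives with the classes of their cocycles. -/
def data (a : ℤ) [I.IsStrictlyGE a] (hI : ∀ q, Injective (I.X q)) : Data X where
  F q := I.X q
  d q := I.d q (q + 1)
  d_comp q := I.d_comp_d _ _ _
  inj := hI
  a := a
  zero q hq V :=
    haveI : Subsingleton ((RlimCrit.abP (Opens.grothendieckTopology X)).obj V ⟶ I.X q) :=
      ⟨fun _ _ => (I.isZero_of_isStrictlyGE a q hq).eq_of_tgt _ _⟩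
    (RlimCrit.abSecAdd V (I.X q)).toEquiv.symm.subsingleton
  H q := CohCx.HDUPresheaf (Q.obj K) q
  cl q V := clK I φ q V
  cl_surjective := clK_surjective I φ
  cl_res := clK_res I φ
  cl_eq_zero_iff := clK_eq_zero_iff I φ

omit I φ in
theorem hyper_filtration {ι : Type u} (U : ι → Opens X) (hcov : iSup U = ⊤)
    (K : CochainComplex (CohTop.Ab X) ℤ) (a : ℤ) (ha : ∀ i : ℤ, i < a → IsZero (K.X i)) (n : ℤ) :
    ∃ (N : ℕ) (F : ℕ → Submodule ℤ (CohCx.HDU (Q.obj K) n (⊤ : Opens X))),
      Antitone F ∧ F 0 = ⊤ ∧ F N = ⊥ ∧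
      F 1 = ⨅ i, AddSubgroup.toIntSubmodule
        (CohCx.HDUres (Q.obj K) n (homOfLE le_top : U i ⟶ (⊤ : Opens X))).ker ∧
      ∀ p : ℕ, HTor.IsSubquotient ℤ (HTor.grDesc F p)
        (CohB1.cechHTop U (CohCx.HDUPresheaf (Q.obj K) (n - p)) p) := by
  haveI : K.IsStrictlyGE a := (CochainComplex.isStrictlyGE_iff K a).2 ha
  obtain ⟨I, φ, hφ, hI, hIge⟩ :=
    CochainComplex.Plus.modelCategoryQuillen.exists_quasiIso_injective K a
  haveI := hφ
  haveI := hI
  haveI := hIge
  haveI := CochainComplex.isKInjective_of_injective I a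
  exact exists_filtration (data I φ a hI) n hcov.ge

end Groth.Agent.CechSSLib
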