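import Mathlib.Algebra.Homology.Refinements
import Mathlib.Algebra.Homology.TotalComplex
import Mathlib.Algebra.Homology.HomologicalComplexAbelian
import Mathlib.Algebra.Homology.HomologicalComplexLimits
import Mathlib.Algebra.Homology.QuasiIso
import Mathlib.Algebra.Category.Grp.Abelian
import Mathlib.Algebra.Category.Grp.Adjunctions
import Mathlib.Algebra.Category.Grp.EpiMono

/-!
# Quasi-isomorphisms of complexes of abelian groups and of double complexes
-/

set_option autoImplicit false
set_option backward.isDefEq.respectTransparency false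
set_option linter.style.haveILetI false

universe w v u

open CategoryTheory CategoryTheory.Limits HomologicalComplex

noncomputable section

namespace Groth.Agent.CechSSLib

variable {K L : CochainComplex AddCommGrpCat.{u} ℤ} (φ : K ⟶ L)

/-- The map out of a free abelian group on elements of `A`. -/
abbrev ofElts {α : Type u} {A : AddCommGrpCat.{u}} (f : α → A) :
    AddCommGrpCat.of (FreeAbelianGroup α) ⟶ A :=
  AddCommGrpCat.ofHom (FreeAbelianGroup.lift f)

/-- A map is a quasi-isomorphism if it is one on elements. -/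
theorem quasiIso_of_elements
    (hs : ∀ (i : ℤ) (y : L.X i), L.d i (i + 1) y = 0 →
      ∃ (x : K.X i) (_ : K.d i (i + 1) x = 0) (z : L.X (i - 1)), y = φ.f i x + L.d (i - 1) i z)
    (hi : ∀ (i : ℤ) (x : K.X i), K.d i (i + 1) x = 0 → ∀ y : L.X (i - 1),
      φ.f i x = L.d (i - 1) i y → ∃ w : K.X (i - 1), x = K.d (i - 1) i w) :
    QuasiIso φ := by
  refine ⟨fun i => ?_⟩
  rw [quasiIsoAt_iff_isIso_homologyMap]
  haveI : Mono (homologyMap φ i) := by
    rw [mono_homologyMap_iff_up_to_refinements _ (i - 1) i (i + 1) (by simp) (by simp)]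
    intro A x hx y hy
    choose w hw using fun a : A => hi i (x a) (ConcreteCategory.congr_hom hx a) (y a)
      (ConcreteCategory.congr_hom hy a)
    refine ⟨_, ofElts (α := (A : Type u)) id, ?_, ofElts w, ?_⟩
    · exact (AddCommGrpCat.epi_iff_surjective _).2
        fun a => ⟨FreeAbelianGroup.of a, FreeAbelianGroup.lift_apply_of _ _⟩
    · refine AddCommGrpCat.hom_ext (FreeAbelianGroup.lift_ext _ _ fun a => ?_)
      show x (FreeAbelianGroup.lift id _) = K.d (i - 1) i (FreeAbelianGroup.lift w _)
      rw [FreeAbelianGroup.lift_apply_of, FreeAbelianGroup.lift_apply_of]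
      exact hw a
  haveI : Epi (homologyMap φ i) := by
    rw [epi_homologyMap_iff_up_to_refinements _ (i - 1) i (i + 1) (by simp) (by simp)]
    intro A y hy
    choose x hx z hz using fun a : A => hs i (y a) (ConcreteCategory.congr_hom hy a)
    refine ⟨_, ofElts (α := (A : Type u)) id, ?_, ofElts x, ?_, ofElts z, ?_⟩
    · exact (AddCommGrpCat.epi_iff_surjective _).2
        fun a => ⟨FreeAbelianGroup.of a, FreeAbelianGroup.lift_apply_of _ _⟩
    · refine AddCommGrpCat.hom_ext (FreeAbelianGroup.lift_ext _ _ fun a => ?_)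
      show K.d i (i + 1) (FreeAbelianGroup.lift x _) = 0
      rw [FreeAbelianGroup.lift_apply_of]
      exact hx a
    · refine AddCommGrpCat.hom_ext (FreeAbelianGroup.lift_ext _ _ fun a => ?_)
      show y (FreeAbelianGroup.lift id _) = φ.f i (FreeAbelianGroup.lift x _) +
        L.d (i - 1) i (FreeAbelianGroup.lift z _)
      simp only [FreeAbelianGroup.lift_apply_of]
      exact hz a
  exact isIso_of_mono_of_epi _

variable [QuasiIso φ]

theorem exists_preimage (i : ℤ) (y : L.X i) (hy : L.d i (i + 1) y = 0) :
    ∃ (x : K.X i) (_ : K.d i (i + 1) x = 0) (z : L.X (i - 1)),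
      y = φ.f i x + L.d (i - 1) i z := by
  have h : Epi (homologyMap φ i) := inferInstance
  rw [epi_homologyMap_iff_up_to_refinements _ (i - 1) i (i + 1) (by simp) (by simp)] at h
  obtain ⟨A, π, hπ, x, hx, z, hz⟩ := h (ofElts (α := PUnit.{u + 1}) fun _ => y)
    (AddCommGrpCat.hom_ext (FreeAbelianGroup.lift_ext _ _ fun a => by
      show L.d i (i + 1) (FreeAbelianGroup.lift _ _) = 0
      rw [FreeAbelianGroup.lift_apply_of, hy]))
  obtain ⟨a, ha⟩ := (AddCommGrpCat.epi_iff_surjective π).1 hπ (FreeAbelianGroup.of PUnit.unit)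
  refine ⟨x a, ConcreteCategory.congr_hom hx a, z a, Eq.trans ?_ (ConcreteCategory.congr_hom hz a)⟩
  show y = FreeAbelianGroup.lift _ (π a)
  rw [ha, FreeAbelianGroup.lift_apply_of]

theorem exists_primitive (i : ℤ) (x : K.X i) (hx : K.d i (i + 1) x = 0) (y : L.X (i - 1))
    (hy : φ.f i x = L.d (i - 1) i y) : ∃ w : K.X (i - 1), x = K.d (i - 1) i w := by
  have h : Mono (homologyMap φ i) := inferInstance
  rw [mono_homologyMap_iff_up_to_refinements _ (i - 1) i (i + 1) (by simp) (by simp)] at h
  obtain ⟨A, π, hπ, w, hw⟩ := h (ofElts (α := PUnit.{u + 1}) fun _ => x)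
    (AddCommGrpCat.hom_ext (FreeAbelianGroup.lift_ext _ _ fun a => by
      show K.d i (i + 1) (FreeAbelianGroup.lift _ _) = 0
      rw [FreeAbelianGroup.lift_apply_of, hx]))
    (ofElts (α := PUnit.{u + 1}) fun _ => y)
    (AddCommGrpCat.hom_ext (FreeAbelianGroup.lift_ext _ _ fun a => by
      show φ.f i (FreeAbelianGroup.lift _ _) = L.d (i - 1) i (FreeAbelianGroup.lift _ _)
      rw [FreeAbelianGroup.lift_apply_of, FreeAbelianGroup.lift_apply_of, hy]))
  obtain ⟨a, ha⟩ := (AddCommGrpCat.epi_iff_surjective π).1 hπ (FreeAbelianGroup.of PUnit.unit)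
  refine ⟨w a, Eq.trans ?_ (ConcreteCategory.congr_hom hw a)⟩
  show x = FreeAbelianGroup.lift _ (π a)
  rw [ha, FreeAbelianGroup.lift_apply_of]

section Double

variable {A : Type w} [Category.{v} A] [Abelian A]

/-- A map of complexes of complexes is a quasi-isomorphism if it is one in each inner degree. -/
theorem quasiIso_of_eval {M N : HomologicalComplex₂ A (ComplexShape.up ℤ) (ComplexShape.up ℤ)}
    (ψ : M ⟶ N)
    (h : ∀ q, QuasiIso (((HomologicalComplex.eval A (ComplexShape.up ℤ) q).mapHomologicalComplex
      (ComplexShape.up ℤ)).map ψ)) : QuasiIso ψ := by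
  refine ⟨fun i => ?_⟩
  rw [quasiIsoAt_iff_isIso_homologyMap]
  let σ := (HomologicalComplex.shortComplexFunctor (CochainComplex A ℤ) (ComplexShape.up ℤ) i).map ψ
  haveI : ∀ q, IsIso ((homologyMap ψ i).f q) := fun q => by
    let ev := HomologicalComplex.eval A (ComplexShape.up ℤ) q
    haveI := h q
    haveI : IsIso (ShortComplex.homologyMap (ev.mapShortComplex.map σ)) :=
      inferInstanceAs (IsIso (homologyMap ((ev.mapHomologicalComplex _).map ψ) i))
    have e := ShortComplex.mapHomologyIso_hom_naturality σ ev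
    haveI : IsIso (((M.sc i).mapHomologyIso ev).hom ≫ ev.map (ShortComplex.homologyMap σ)) := by
      rw [← e]; infer_instance
    have := IsIso.of_isIso_comp_left ((M.sc i).mapHomologyIso ev).hom
      (ev.map (ShortComplex.homologyMap σ))
    exact this
  exact HomologicalComplex.Hom.isIso_of_components _

variable (M : CochainComplex A ℤ)

/-- A complex placed in outer degree zero. -/
abbrev outer : HomologicalComplex₂ A (ComplexShape.up ℤ) (ComplexShape.up ℤ) :=
  (HomologicalComplex.single _ (ComplexShape.up ℤ) 0).obj M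

theorem isZero_outer (p q : ℤ) (hp : p ≠ 0) : IsZero (((outer M).X p).X q) :=
  Functor.map_isZero (HomologicalComplex.eval A (ComplexShape.up ℤ) q)
    (HomologicalComplex.isZero_single_obj_X _ _ _ _ hp)

variable [(outer M).HasTotal (ComplexShape.up ℤ)]

/-- The inclusion in the total complex. -/
def toTotal : M ⟶ (outer M).total (ComplexShape.up ℤ) where
  f n := (HomologicalComplex.singleObjXSelf (ComplexShape.up ℤ) 0 M).inv.f n ≫
    (outer M).ιTotal (ComplexShape.up ℤ) 0 n n (zero_add n)
  comm' n n' (h : n + 1 = n') := by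
    subst h
    show _ = M.d n (n + 1) ≫ _ ≫ _
    rw [HomologicalComplex₂.total_d, Preadditive.comp_add, Category.assoc, Category.assoc,
      HomologicalComplex₂.ι_D₁, HomologicalComplex₂.ι_D₂,
      HomologicalComplex₂.d₁_eq _ _ (show (ComplexShape.up ℤ).Rel 0 1 from zero_add 1) n _
        (show (1 : ℤ) + n = n + 1 by omega),
      HomologicalComplex₂.d₂_eq _ _ _ (show (ComplexShape.up ℤ).Rel n (n + 1) from rfl) _
        (show (0 : ℤ) + (n + 1) = n + 1 by omega),
      HomologicalComplex.single_obj_d, HomologicalComplex.zero_f, zero_comp, smul_zero, comp_zero,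
      zero_add]
    have e : ComplexShape.ε₂ (ComplexShape.up ℤ) (ComplexShape.up ℤ) (ComplexShape.up ℤ)
        ((0 : ℤ), n) = 1 := Int.negOnePow_zero
    rw [e, one_smul, HomologicalComplex.Hom.comm_assoc]

theorem isIso_toTotal : IsIso (toTotal M) := by
  haveI : ∀ n, IsIso ((toTotal M).f n) := fun n => by
    haveI : IsIso ((outer M).ιTotal (ComplexShape.up ℤ) 0 n n (zero_add n)) := by
      let r : ((outer M).total (ComplexShape.up ℤ)).X n ⟶ ((outer M).X 0).X n :=
        (outer M).totalDesc fun p q (h : p + q = n) =>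
          if hp : p = 0 then eqToHom (by subst hp; obtain rfl : q = n := by omega
                                         rfl) else 0
      refine ⟨r, ?_, ?_⟩
      · simp [r]
      · apply HomologicalComplex₂.total.hom_ext
        intro p q h
        have h' : p + q = n := h
        by_cases hp : p = 0
        · subst hp
          obtain rfl : q = n := by omega
          simp [r]
        · exact (isZero_outer M p q hp).eq_of_src _ _
    haveI : IsIso ((HomologicalComplex.singleObjXSelf (ComplexShape.up ℤ) 0 M).inv.f n) :=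
      inferInstanceAs (IsIso ((HomologicalComplex.eval A (ComplexShape.up ℤ) n).map
        (HomologicalComplex.singleObjXSelf (ComplexShape.up ℤ) 0 M).inv))
    exact IsIso.comp_isIso
  exact HomologicalComplex.Hom.isIso_of_components _

end Double

end Groth.Agent.CechSSLib
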